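import Groth.Agent.PairHensLib.Finite
import Groth.Agent.PairHensLib.OpenLocus
import Groth.Agent.S2041

/-! Étale neighbourhoods in which an algebra, finite on the closed subscheme, becomes finite. -/

set_option autoImplicit false
set_option linter.style.haveILetI false
set_option maxHeartbeats 3200000
set_option synthInstance.maxHeartbeats 400000
universe u

open TensorProduct

namespace EtNbhdFiniteLib

variable {A : Type u} [CommRing A] {I : Ideal A} {B : Type u} [CommRing B] [Algebra A B]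

theorem exists_idem_subalgebra [Algebra.FiniteType A B] [Module.Finite A (B ⧸ I.map (algebraMap A B))] :
    ∃ (S : Subalgebra A B) (g : S), Module.Finite A S ∧ (g : B) - 1 ∈ I.map (algebraMap A B) ∧
      IsIdempotentElem (Ideal.Quotient.mk (I.map (algebraMap A S)) g) ∧
      ∀ x : B, ∃ m : ℕ, (g : B) ^ m * x ∈ S := by
  obtain ⟨S, s, hS, hs1, hsx⟩ := PairHensLib.exists_finite_subalgebra (A := A) (R := B) (I := I)
  obtain ⟨N, v, hv, hv'⟩ := PairHensLib.mem_map_of_mem_map (I := I) S s hsx
    (show (s : B) * s - s ∈ I.map (algebraMap A B) by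
      rw [show (s : B) * s - s = s * ((s : B) - 1) by ring]; exact Ideal.mul_mem_left _ _ hs1)
  have hv2 : s ^ N * (s * s - s) ∈ I.map (algebraMap A S) := by
    convert hv using 1
    exact Subtype.ext (by push_cast; exact hv'.symm)
  refine ⟨S, s ^ (N + 1), hS, ?_, ?_, fun x => ?_⟩
  · push_cast
    obtain ⟨c, hc⟩ := sub_one_dvd_pow_sub_one (s : B) (N + 1)
    rw [hc]; exact Ideal.mul_mem_right _ _ hs1
  · let ρ := Ideal.Quotient.mk (I.map (algebraMap A S))
    have h2 : ρ s ^ (N + 2) = ρ s ^ (N + 1) := by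
      rw [← map_pow, ← map_pow]
      refine Ideal.Quotient.eq.2 ?_
      convert hv2 using 1
      ring
    have h3 : ∀ j, ρ s ^ (N + 1 + j) = ρ s ^ (N + 1) := fun j => by
      induction j with
      | zero => rfl
      | succ j ih => rw [← add_assoc, pow_succ, ih, ← pow_succ]; exact h2
    show ρ _ * ρ _ = ρ _
    rw [map_pow, ← pow_add]
    exact h3 (N + 1)
  · obtain ⟨m, hm⟩ := hsx x
    refine ⟨m, ?_⟩
    push_cast
    rw [← pow_mul, Nat.add_mul, one_mul, pow_add, mul_assoc]
    exact mul_mem (pow_mem s.2 _) hm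

/-- A finite neighbourhood in which `g` is invertible. -/
theorem exists_unit_nbhd {A' T : Type u} [CommRing A'] [CommRing T] [Algebra A' T] [Module.Finite A' T]
    (J : Ideal A') (g : T) (hg : g - 1 ∈ J.map (algebraMap A' T)) :
    ∃ a : A', a - 1 ∈ J ∧ g ∣ algebraMap A' T a := by
  have h : (Ideal.span {g}).comap (algebraMap A' T) ⊔ J = ⊤ := by
    by_contra hne
    obtain ⟨P, hP, hle⟩ := Ideal.exists_le_maximal _ hne
    obtain ⟨Q, hQg, hQ, hQP⟩ := Ideal.exists_ideal_over_prime_of_isIntegral P _ (le_sup_left.trans hle)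
    refine hQ.ne_top ((Ideal.eq_top_iff_one _).2 ?_)
    have h1 : g - 1 ∈ Q := Ideal.map_le_iff_le_comap.2 (by rw [hQP]; exact le_sup_right.trans hle) hg
    simpa using Q.sub_mem (hQg (Ideal.mem_span_singleton_self g)) h1
  obtain ⟨a, ha, j, hj, haj⟩ := Submodule.mem_sup.1 ((Ideal.eq_top_iff_one _).1 h)
  exact ⟨a, by rw [← haj, sub_add_cancel_left]; exact J.neg_mem hj, Ideal.mem_span_singleton.1 ha⟩

/-- The stage before localisation. -/
theorem exists_stage (S : Subalgebra A B) [Module.Finite A S] (g : S)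
    (hg1 : (g : B) - 1 ∈ I.map (algebraMap A B)) (hgi : IsIdempotentElem (Ideal.Quotient.mk (I.map (algebraMap A S)) g)) :
    ∃ (A' : Type u) (_ : CommRing A') (_ : Algebra A A') (_ : Algebra.Etale A A')
      (C₀ : Type u) (_ : CommRing C₀) (_ : Algebra A C₀) (_ : Algebra A' C₀) (_ : Algebra S C₀)
      (_ : IsScalarTower A A' C₀) (_ : IsScalarTower A S C₀) (_ : Algebra.Etale S C₀) (_ : Module.Finite A' C₀)
      (Λ₀ : C₀ →ₐ[A] B ⧸ I.map (algebraMap A B)),
      Function.Bijective (algebraMap (A ⧸ I) (A' ⧸ I.map (algebraMap A A'))) ∧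
      algebraMap S C₀ g - 1 ∈ I.map (algebraMap A C₀) ∧
      (∀ s : S, Λ₀ (algebraMap S C₀ s) = Ideal.Quotient.mk _ (s : B)) ∧
      (∀ c : C₀, ∃ s : S, c - algebraMap S C₀ s ∈ I.map (algebraMap A C₀)) := by
  obtain ⟨A', _, _, _, hbij, ε, hε, hεg⟩ := Groth.Agent.S2041.result I _ hgi
  specialize hεg g rfl
  letI : Algebra S (A' ⊗[A] S) := Algebra.TensorProduct.rightAlgebra
  haveI : IsScalarTower A S (A' ⊗[A] S) := Algebra.TensorProduct.right_isScalarTower
  haveI : Algebra.Etale S (A' ⊗[A] S) :=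
    Algebra.Etale.of_equiv ((Algebra.TensorProduct.commRight A S A'))
  haveI : IsLocalization.Away ε ((A' ⊗[A] S) ⧸ Ideal.span {1 - ε}) := IsLocalization.away_of_isIdempotentElem hε
    (by simp [Ideal.Quotient.algebraMap_eq, Ideal.mk_ker]) Ideal.Quotient.mk_surjective
  haveI : Algebra.Etale (A' ⊗[A] S) ((A' ⊗[A] S) ⧸ Ideal.span {1 - ε}) := Algebra.Etale.of_isLocalizationAway ε
  let π := Ideal.Quotient.mk (Ideal.span {1 - ε})
  have hπε : π ε = 1 := ((Ideal.Quotient.eq).2 (Ideal.mem_span_singleton_self _)).symm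
  let j := I.map (algebraMap A A')
  have hq : ∀ x : A', ∃ r : A, x - algebraMap A A' r ∈ j := fun x => by
    obtain ⟨z, hz⟩ := hbij.2 (Ideal.Quotient.mk j x)
    obtain ⟨r, rfl⟩ := Ideal.Quotient.mk_surjective z
    exact ⟨r, Ideal.Quotient.eq.1 hz.symm⟩
  let J := I.map (algebraMap A B)
  let ν₀ : A' →ₐ[A] B ⧸ J :=
    { (algebraMap (A ⧸ I) (B ⧸ J)).comp ((RingEquiv.ofBijective _ hbij).symm.toRingHom.comp (Ideal.Quotient.mk j)) with
      commutes' := fun r => by
        show algebraMap (A ⧸ I) (B ⧸ J) ((RingEquiv.ofBijective _ hbij).symm (Ideal.Quotient.mk j (algebraMap A A' r))) = _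
        rw [show (RingEquiv.ofBijective _ hbij).symm (Ideal.Quotient.mk j (algebraMap A A' r)) = Ideal.Quotient.mk I r from
          (RingEquiv.symm_apply_eq _).2 rfl]
        rfl }
  let Λ : A' ⊗[A] S →ₐ[A] B ⧸ J :=
    Algebra.TensorProduct.lift ν₀ ((Ideal.Quotient.mkₐ A J).comp S.val) fun _ _ => Commute.all _ _
  have hkill : ∀ {X : Type u} [CommRing X] [Algebra A X] (f : X →ₐ[A] B ⧸ J) (x : X),
      x ∈ I.map (algebraMap A X) → f x = 0 := fun {X} _ _ f x hx => by
    refine (Ideal.map_le_iff_le_comap.2 (fun i hi => ?_) : I.map (algebraMap A X) ≤ RingHom.ker f) hx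
    show f (algebraMap A X i) = 0
    rw [f.commutes]
    exact Ideal.Quotient.eq_zero_iff_mem.2 (Ideal.mem_map_of_mem _ hi)
  have hmg : Ideal.Quotient.mk J (g : B) = 1 := (Ideal.Quotient.eq.2 hg1).trans (map_one _)
  have hΛε : Λ ε = 1 := by
    have h1 := hkill Λ _ hεg
    rw [map_sub, sub_eq_zero] at h1
    rw [h1, Algebra.TensorProduct.lift_tmul, map_one, one_mul]
    exact hmg
  have hmap : ∀ z ∈ I.map (algebraMap A (A' ⊗[A] S)), π z ∈ I.map (algebraMap A ((A' ⊗[A] S) ⧸ Ideal.span {1 - ε})) :=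
    fun z hz => by
      have := Ideal.mem_map_of_mem π hz
      rw [Ideal.map_map] at this
      exact this
  refine ⟨A', inferInstance, inferInstance, inferInstance, (A' ⊗[A] S) ⧸ Ideal.span {1 - ε}, inferInstance,
    inferInstance, inferInstance, inferInstance, inferInstance, inferInstance,
    Algebra.Etale.comp S (A' ⊗[A] S) _, Module.Finite.trans (A' ⊗[A] S) _,
    Ideal.Quotient.liftₐ _ Λ fun x hx => ?_, hbij, ?_, fun s => ?_, fun c => ?_⟩
  · obtain ⟨y, rfl⟩ := Ideal.mem_span_singleton'.1 hx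
    rw [map_mul, map_sub, map_one, hΛε, sub_self, mul_zero]
  · show π ((1 : A') ⊗ₜ[A] g) - 1 ∈ _
    have := Submodule.neg_mem _ (hmap _ hεg)
    rw [map_sub, hπε, neg_sub] at this
    exact this
  · show Λ ((1 : A') ⊗ₜ s) = _
    rw [Algebra.TensorProduct.lift_tmul, map_one, one_mul]
    rfl
  · obtain ⟨z, rfl⟩ := Ideal.Quotient.mk_surjective c
    induction z using TensorProduct.induction_on with
    | zero => exact ⟨0, by simp⟩
    | add x y hx hy =>
      obtain ⟨sx, hx⟩ := hx
      obtain ⟨sy, hy⟩ := hy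
      refine ⟨sx + sy, ?_⟩
      have := add_mem hx hy
      rw [map_add, map_add]
      convert this using 1
      ring
    | tmul x s =>
      obtain ⟨r, hr⟩ := hq x
      refine ⟨algebraMap A S r * s, ?_⟩
      show π (x ⊗ₜ s) - π ((1 : A') ⊗ₜ (algebraMap A S r * s)) ∈ _
      rw [← Algebra.smul_def, ← smul_tmul, Algebra.smul_def, mul_one, ← map_sub, ← sub_tmul]
      refine hmap _ ?_
      rw [show (x - algebraMap A A' r) ⊗ₜ[A] s = algebraMap A' (A' ⊗[A] S) (x - algebraMap A A' r) * ((1 : A') ⊗ₜ s) by simp]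
      refine Ideal.mul_mem_right _ _ ?_
      have := Ideal.mem_map_of_mem (algebraMap A' (A' ⊗[A] S)) hr
      rwa [Ideal.map_map, ← IsScalarTower.algebraMap_eq] at this

/-- Localising the stage. -/
theorem exists_nbhd_of_stage {S : Type u} [CommRing S] [Algebra A S] [Algebra S B] [IsScalarTower A S B]
    (hinj : Function.Injective (algebraMap S B)) (g : S) (hg1 : algebraMap S B g - 1 ∈ I.map (algebraMap A B))
    (hgx : ∀ x : B, ∃ m : ℕ, ∃ s : S, algebraMap S B s = algebraMap S B g ^ m * x)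
    {A' : Type u} [CommRing A'] [Algebra A A'] [Algebra.Etale A A']
    {C₀ : Type u} [CommRing C₀] [Algebra A C₀] [Algebra A' C₀] [Algebra S C₀] [IsScalarTower A A' C₀]
    [IsScalarTower A S C₀] [Algebra.Etale S C₀] [Module.Finite A' C₀]
    (Λ₀ : C₀ →ₐ[A] B ⧸ I.map (algebraMap A B))
    (hbij : Function.Bijective (algebraMap (A ⧸ I) (A' ⧸ I.map (algebraMap A A'))))
    (hgC : algebraMap S C₀ g - 1 ∈ I.map (algebraMap A C₀))
    (hΛS : ∀ s : S, Λ₀ (algebraMap S C₀ s) = Ideal.Quotient.mk _ (algebraMap S B s))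
    (hK₀ : ∀ c : C₀, ∃ s : S, c - algebraMap S C₀ s ∈ I.map (algebraMap A C₀)) :
    ∃ (A' : Type u) (_ : CommRing A') (_ : Algebra A A') (_ : Algebra.Etale A A')
      (C : Type u) (_ : CommRing C) (_ : Algebra A C) (_ : Algebra A' C) (_ : Algebra B C)
      (_ : IsScalarTower A A' C) (_ : IsScalarTower A B C),
      Function.Surjective ((Ideal.Quotient.mk (Ideal.map (algebraMap A A') I)).comp (algebraMap A A')) ∧
      RingHom.ker ((Ideal.Quotient.mk (Ideal.map (algebraMap A A') I)).comp (algebraMap A A')) = I ∧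
      Algebra.Etale B C ∧ Module.Finite A' C ∧
      Function.Surjective ((Ideal.Quotient.mk (Ideal.map (algebraMap A C) I)).comp (algebraMap B C)) ∧
      RingHom.ker ((Ideal.Quotient.mk (Ideal.map (algebraMap A C) I)).comp (algebraMap B C)) =
        Ideal.map (algebraMap A B) I := by
  have hg0 : algebraMap S C₀ g - 1 ∈ (I.map (algebraMap A A')).map (algebraMap A' C₀) := by
    rw [Ideal.map_map, ← IsScalarTower.algebraMap_eq]; exact hgC
  obtain ⟨a, ha, hga⟩ := exists_unit_nbhd _ _ hg0
  let A'' := Localization.Away a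
  let C := Localization (Algebra.algebraMapSubmonoid C₀ (Submonoid.powers a))
  haveI : IsScalarTower A' A'' C := isScalarTower_localizationAlgebra (Submonoid.powers a) C₀
  haveI : IsScalarTower A A'' C := IsScalarTower.to₁₃₄ A A' A'' C
  haveI : IsLocalization.Away (algebraMap A' C₀ a) C := by
    rw [IsLocalization.Away, ← Algebra.algebraMapSubmonoid_powers a]
    infer_instance
  haveI : Algebra.Etale C₀ C := Algebra.Etale.of_isLocalizationAway (algebraMap A' C₀ a)
  haveI : Algebra.Etale S C := Algebra.Etale.comp S C₀ C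
  haveI : Algebra.Etale A' A'' := Algebra.Etale.of_isLocalizationAway a
  haveI : Algebra.Etale A A'' := Algebra.Etale.comp A A' A''
  haveI : Module.Finite A'' C := Module.Finite.of_isLocalization A' C₀ (Submonoid.powers a)
  -- the `B`-algebra structure
  let Bg := Localization.Away (algebraMap S B g)
  haveI hloc : IsLocalization.Away g Bg := by
    refine IsLocalization.Away.mk g ?_ (fun z => ?_) fun x y hxy => ?_
    · rw [IsScalarTower.algebraMap_apply S B Bg]; exact IsLocalization.Away.algebraMap_isUnit (S := Bg) (algebraMap S B g)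
    · obtain ⟨n, b, hb⟩ := IsLocalization.Away.surj (algebraMap S B g) z
      obtain ⟨m, s, hm⟩ := hgx b
      refine ⟨n + m, s, ?_⟩
      rw [IsScalarTower.algebraMap_apply S B Bg, IsScalarTower.algebraMap_apply S B Bg, hm, map_mul, map_pow, ← hb]
      ring
    · rw [IsScalarTower.algebraMap_apply S B Bg, IsScalarTower.algebraMap_apply S B Bg] at hxy
      obtain ⟨⟨_, n, rfl⟩, hn⟩ := (IsLocalization.eq_iff_exists (Submonoid.powers (algebraMap S B g)) Bg).1 hxy
      exact ⟨n, hinj (by simpa using hn)⟩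
  have hgu : IsUnit (algebraMap S C g) := by
    obtain ⟨c, hc⟩ := hga
    have h1 := IsLocalization.Away.algebraMap_isUnit (S := C) (algebraMap A' C₀ a)
    rw [hc, map_mul] at h1
    rw [IsScalarTower.algebraMap_apply S C₀ C]
    exact isUnit_of_mul_isUnit_left h1
  let φ : Bg →+* C := IsLocalization.Away.lift g hgu
  letI : Algebra Bg C := φ.toAlgebra
  haveI : IsScalarTower S Bg C := IsScalarTower.of_algebraMap_eq fun s => (IsLocalization.Away.lift_eq g hgu s).symm
  letI : Algebra B C := (φ.comp (algebraMap B Bg)).toAlgebra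
  haveI : IsScalarTower B Bg C := IsScalarTower.of_algebraMap_eq fun _ => rfl
  haveI : Algebra.Etale S Bg := Algebra.Etale.of_isLocalizationAway g
  haveI : Algebra.Etale Bg C := Algebra.Etale.of_restrictScalars S Bg C
  haveI : Algebra.Etale B Bg := Algebra.Etale.of_isLocalizationAway (algebraMap S B g)
  have hS' : ∀ s : S, algebraMap B C (algebraMap S B s) = algebraMap S C s := fun s => by
    show φ (algebraMap B Bg (algebraMap S B s)) = _
    rw [← IsScalarTower.algebraMap_apply]
    exact IsLocalization.Away.lift_eq g hgu s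
  haveI : IsScalarTower A B C := IsScalarTower.of_algebraMap_eq fun x => by
    rw [IsScalarTower.algebraMap_apply A S B, hS' (algebraMap A S x)]
    exact IsScalarTower.algebraMap_apply A S C x
  -- the quotient of the base
  let j := I.map (algebraMap A A')
  have hq : ∀ x : A', ∃ r : A, x - algebraMap A A' r ∈ j := fun x => by
    obtain ⟨z, hz⟩ := hbij.2 (Ideal.Quotient.mk j x)
    obtain ⟨r, rfl⟩ := Ideal.Quotient.mk_surjective z
    exact ⟨r, Ideal.Quotient.eq.1 hz.symm⟩
  obtain ⟨hetA, hbij2⟩ := PairHensLib.etale_away_quotient_bijective (R := A') (J := j) ha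
  let ν : A'' →+* A ⧸ I := (RingEquiv.ofBijective _ hbij).symm.toRingHom.comp
    (IsLocalization.Away.lift a (g := Ideal.Quotient.mk j) (by
      rw [(Ideal.Quotient.eq.2 ha).trans (map_one _)]; exact isUnit_one))
  have hν : ∀ r : A, ν (algebraMap A A'' r) = Ideal.Quotient.mk I r := fun r => by
    simp only [ν, RingHom.comp_apply, IsScalarTower.algebraMap_apply A A' A'', IsLocalization.Away.lift_eq]
    exact (RingEquiv.symm_apply_eq _).2 rfl
  have hA1 : Function.Surjective ((Ideal.Quotient.mk (I.map (algebraMap A A''))).comp (algebraMap A A'')) := by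
    intro y
    have hIm : j.map (algebraMap A' A'') = I.map (algebraMap A A'') := by
      rw [Ideal.map_map, ← IsScalarTower.algebraMap_eq]
    obtain ⟨z, rfl⟩ := Ideal.Quotient.mk_surjective y
    obtain ⟨x, hx⟩ := hbij2.2 (Ideal.Quotient.mk _ z)
    obtain ⟨x, rfl⟩ := Ideal.Quotient.mk_surjective x
    rw [Ideal.quotientMap_mk, Ideal.Quotient.eq, hIm] at hx
    obtain ⟨r, hr⟩ := hq x
    refine ⟨r, Ideal.Quotient.eq.2 ?_⟩
    have h2 : algebraMap A' A'' (x - algebraMap A A' r) ∈ I.map (algebraMap A A'') := hIm ▸ Ideal.mem_map_of_mem _ hr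
    rw [map_sub, ← IsScalarTower.algebraMap_apply] at h2
    have h3 := Submodule.sub_mem _ hx h2
    rw [show ∀ u v w : A'', u - v - (u - w) = w - v from fun u v w => by ring] at h3
    exact h3
  let J := I.map (algebraMap A B)
  have hkill : ∀ {X : Type u} [CommRing X] [Algebra A X] (f : X →ₐ[A] B ⧸ J) (x : X),
      x ∈ I.map (algebraMap A X) → f x = 0 := fun {X} _ _ f x hx => by
    refine (Ideal.map_le_iff_le_comap.2 (fun i hi => ?_) : I.map (algebraMap A X) ≤ RingHom.ker f) hx
    show f (algebraMap A X i) = 0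
    rw [f.commutes]
    exact Ideal.Quotient.eq_zero_iff_mem.2 (Ideal.mem_map_of_mem _ hi)
  have hmg : Ideal.Quotient.mk J (algebraMap S B g) = 1 := (Ideal.Quotient.eq.2 hg1).trans (map_one _)
  have hΛa : Λ₀ (algebraMap A' C₀ a) = 1 := by
    have hmem : algebraMap A' C₀ a - 1 ∈ I.map (algebraMap A C₀) := by
      have := Ideal.mem_map_of_mem (algebraMap A' C₀) ha
      rwa [Ideal.map_map, ← IsScalarTower.algebraMap_eq, map_sub, map_one] at this
    exact sub_eq_zero.1 (((map_sub Λ₀ _ _).trans (congrArg _ (map_one Λ₀))).symm.trans (hkill Λ₀ _ hmem))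
  let Φ : C →ₐ[A] B ⧸ J :=
    { IsLocalization.Away.lift (algebraMap A' C₀ a) (g := Λ₀.toRingHom) (by
        show IsUnit (Λ₀ _); rw [hΛa]; exact isUnit_one) with
      commutes' := fun r => by
        show IsLocalization.Away.lift (algebraMap A' C₀ a) _ (algebraMap A C r) = _
        rw [IsScalarTower.algebraMap_apply A C₀ C, IsLocalization.Away.lift_eq]
        exact Λ₀.commutes r }
  have hu : IsUnit (Λ₀.toRingHom (algebraMap A' C₀ a)) := by
    show IsUnit (Λ₀ _); rw [hΛa]; exact isUnit_one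
  have hΦS : ∀ s : S, Φ (algebraMap S C s) = Ideal.Quotient.mk J (algebraMap S B s) := fun s => by
    show IsLocalization.Away.lift (algebraMap A' C₀ a) hu (algebraMap S C s) = _
    rw [IsScalarTower.algebraMap_apply S C₀ C, IsLocalization.Away.lift_eq]
    exact hΛS s
  have hΦ : ∀ b : B, Φ (algebraMap B C b) = Ideal.Quotient.mk J b := fun b => by
    obtain ⟨m, s, hm⟩ := hgx b
    have h1 := hΦS s
    rw [← hS', hm] at h1
    simp only [map_mul, map_pow] at h1
    rw [hS' g, hΦS g, hmg, one_pow, one_mul, one_mul] at h1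
    exact h1
  let K := I.map (algebraMap A C)
  have hK : ∀ c : C₀, ∃ b : B, Ideal.Quotient.mk K (algebraMap B C b) = Ideal.Quotient.mk K (algebraMap C₀ C c) := by
    intro c
    obtain ⟨s, hs⟩ := hK₀ c
    refine ⟨algebraMap S B s, ?_⟩
    rw [hS', IsScalarTower.algebraMap_apply S C₀ C, eq_comm, Ideal.Quotient.eq, ← map_sub]
    have := Ideal.mem_map_of_mem (algebraMap C₀ C) hs
    rwa [Ideal.map_map, ← IsScalarTower.algebraMap_eq] at this
  refine ⟨A'', inferInstance, inferInstance, inferInstance, C, inferInstance, inferInstance, inferInstance,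
    inferInstance, inferInstance, inferInstance, hA1, ?_, Algebra.Etale.comp B Bg C, inferInstance, ?_, ?_⟩
  · refine le_antisymm (fun r hr => ?_) fun r hr => ?_
    · rw [RingHom.mem_ker, RingHom.comp_apply, Ideal.Quotient.eq_zero_iff_mem] at hr
      have hle : I.map (algebraMap A A'') ≤ RingHom.ker ν := Ideal.map_le_iff_le_comap.2 fun i hi => by
        show ν _ = 0
        rw [hν]; exact Ideal.Quotient.eq_zero_iff_mem.2 hi
      exact Ideal.Quotient.eq_zero_iff_mem.1 ((hν r).symm.trans (hle hr))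
    · exact Ideal.Quotient.eq_zero_iff_mem.2 (Ideal.mem_map_of_mem _ hr)
  · intro y
    obtain ⟨z, rfl⟩ := Ideal.Quotient.mk_surjective y
    obtain ⟨n, c, hc⟩ := IsLocalization.Away.surj (algebraMap A' C₀ a) z
    obtain ⟨b, hb⟩ := hK c
    refine ⟨b, hb.trans ?_⟩
    rw [← hc, map_mul, map_pow]
    have h1 : Ideal.Quotient.mk K (algebraMap C₀ C (algebraMap A' C₀ a)) = 1 := by
      rw [← IsScalarTower.algebraMap_apply, ← map_one (Ideal.Quotient.mk K), ← map_one (algebraMap A' C),
        Ideal.Quotient.eq, ← map_sub]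
      have := Ideal.mem_map_of_mem (algebraMap A' C) ha
      rwa [Ideal.map_map, ← IsScalarTower.algebraMap_eq] at this
    rw [h1, one_pow, mul_one]
  · refine le_antisymm (fun b hb => ?_) fun b hb => ?_
    · rw [RingHom.mem_ker, RingHom.comp_apply, Ideal.Quotient.eq_zero_iff_mem] at hb
      exact Ideal.Quotient.eq_zero_iff_mem.1 ((hΦ b).symm.trans (hkill Φ _ hb))
    · have := Ideal.mem_map_of_mem (algebraMap B C) hb
      rw [Ideal.map_map, ← IsScalarTower.algebraMap_eq] at this
      exact Ideal.Quotient.eq_zero_iff_mem.2 this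


theorem exists_nbhd [Algebra.FiniteType A B] [Module.Finite A (B ⧸ I.map (algebraMap A B))] :
    ∃ (A' : Type u) (_ : CommRing A') (_ : Algebra A A') (_ : Algebra.Etale A A')
      (C : Type u) (_ : CommRing C) (_ : Algebra A C) (_ : Algebra A' C) (_ : Algebra B C)
      (_ : IsScalarTower A A' C) (_ : IsScalarTower A B C),
      Function.Surjective ((Ideal.Quotient.mk (Ideal.map (algebraMap A A') I)).comp (algebraMap A A')) ∧
      RingHom.ker ((Ideal.Quotient.mk (Ideal.map (algebraMap A A') I)).comp (algebraMap A A')) = I ∧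
      Algebra.Etale B C ∧ Module.Finite A' C ∧
      Function.Surjective ((Ideal.Quotient.mk (Ideal.map (algebraMap A C) I)).comp (algebraMap B C)) ∧
      RingHom.ker ((Ideal.Quotient.mk (Ideal.map (algebraMap A C) I)).comp (algebraMap B C)) =
        Ideal.map (algebraMap A B) I := by
  obtain ⟨S, g, hS, hg1, hgi, hgx⟩ := exists_idem_subalgebra (A := A) (B := B) (I := I)
  obtain ⟨A', _, _, _, C₀, _, _, _, _, _, _, _, _, Λ₀, h1, h2, h3, h4⟩ := exists_stage S g hg1 hgi
  exact exists_nbhd_of_stage (S := S) Subtype.val_injective g hg1 (fun x => (hgx x).imp fun m hm => ⟨⟨_, hm⟩, rfl⟩) Λ₀ h1 h2 h3 h4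

end EtNbhdFiniteLib
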